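import Cfsg.Agent.Lib.H9.MultCo0c
import Cfsg.Agent.Lib.H9.CoMat4

set_option autoImplicit false

/-! The sign changes fixing `leechU` and the permutations fixing two points, in the stabiliser of `leechU`. -/

universe u v

namespace H9.MultCo2

open Cfsg Finset Subgroup H9.Leech H9.LeechGood H9.Trans H9.Cross H9.CoOrder H9.Co23 H9.Co1Out H9.Mult H9.OctGen H9.MultCo0 H9.CoMat
open H8.GolayCode H8.GolayBasic H8.GolayCount H32.M24Kit H32.Octad H32.OctadOrb H33.M24Move

/-- the point 0 -/
abbrev z0 : GolayPt := some 0

theorem two_U : Spor.leechU + Spor.leechU = e8 none + e8 z0 := by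
  apply Subtype.ext
  funext p
  show Spor.vecU p + Spor.vecU p = ((e8 none : leechLattice) : GolayPt → ℤ) p + ((e8 z0 : leechLattice) : GolayPt → ℤ) p
  rw [coe_e8, coe_e8]
  unfold Spor.vecU
  by_cases h1 : p = none
  · subst h1
    rw [if_pos (Or.inl rfl), Pi.single_eq_same, Pi.single_eq_of_ne (by simp)] <;> norm_num
  · by_cases h2 : p = z0
    · subst h2
      rw [if_pos (Or.inr rfl), Pi.single_eq_same, Pi.single_eq_of_ne (by simp)] <;> norm_num
    · rw [if_neg (by simp [h1, h2]), Pi.single_eq_of_ne h1, Pi.single_eq_of_ne h2] <;> norm_num

theorem fixU_of {g : Co0} (h : g • e8 none + g • e8 z0 = e8 none + e8 z0) : g • Spor.leechU = Spor.leechU := by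
  have h1 : g • (Spor.leechU + Spor.leechU) = g • Spor.leechU + g • Spor.leechU := map_add (co0Equiv g) _ _
  have h2 : g • (e8 none + e8 z0) = g • e8 none + g • e8 z0 := map_add (co0Equiv g) _ _
  rw [two_U, h2, h, ← two_U] at h1
  apply Subtype.ext
  funext p
  have h3 := congrFun (congrArg Subtype.val h1) p
  have h4 : ((Spor.leechU + Spor.leechU : leechLattice) : GolayPt → ℤ) p =
    (Spor.leechU : GolayPt → ℤ) p + (Spor.leechU : GolayPt → ℤ) p := rfl
  have h5 : ((g • Spor.leechU + g • Spor.leechU : leechLattice) : GolayPt → ℤ) p =
    ((g • Spor.leechU : leechLattice) : GolayPt → ℤ) p + ((g • Spor.leechU : leechLattice) : GolayPt → ℤ) p := rfl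
  rw [h4, h5] at h3
  omega

/-- the code words missing the two points -/
def EE : Set (Finset GolayPt) := {c | c ∈ GS ∧ none ∉ c ∧ z0 ∉ c}

/-- the octads missing the two points -/
def OE : Set (Finset GolayPt) := {c | c ∈ octads ∧ none ∉ c ∧ z0 ∉ c}

theorem oe_ee {o : Finset GolayPt} (h : o ∈ OE) : o ∈ EE := ⟨h.1.1, h.2⟩

theorem ee_symm {c d : Finset GolayPt} (hc : c ∈ EE) (hd : d ∈ EE) : symmDiff c d ∈ EE := by
  refine ⟨symmDiff_mem hc.1 hd.1, ?_, ?_⟩
  · intro h; rw [mem_symmDiff] at h; rcases h with h | h
    · exact hc.2.1 h.1
    · exact hd.2.1 h.1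
  · intro h; rw [mem_symmDiff] at h; rcases h with h | h
    · exact hc.2.2 h.1
    · exact hd.2.2 h.1

theorem oe_symm {c d : Finset GolayPt} (hc : c ∈ OE) (hd : d ∈ OE) (h : (c ∩ d).card = 4) : symmDiff c d ∈ OE :=
  ⟨symm_octad hc.1 hd.1 h, (ee_symm (oe_ee hc) (oe_ee hd)).2⟩

open Classical in
/-- sign change -/
noncomputable def sn (c : Finset GolayPt) : G2 :=
  if h : c ∈ EE then ⟨sg c, fixU_of (by rw [sg_e8 h.1, sg_e8 h.1, if_neg h.2.1, if_neg h.2.2])⟩ else 1

theorem sn_coe {c : Finset GolayPt} (h : c ∈ EE) : (sn c).1 = sg c := by
  unfold sn; rw [dif_pos h]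

theorem sn_mul {c d : Finset GolayPt} (hc : c ∈ EE) (hd : d ∈ EE) : sn c * sn d = sn (symmDiff c d) := by
  apply Subtype.ext
  show (sn c).1 * (sn d).1 = _
  rw [sn_coe hc, sn_coe hd, sn_coe (ee_symm hc hd), sg_mul hc.1 hd.1]

theorem sn_sq {c : Finset GolayPt} (hc : c ∈ EE) : sn c * sn c = 1 := by
  apply Subtype.ext
  show (sn c).1 * (sn c).1 = _
  rw [sn_coe hc, sg_sq hc.1]; rfl

theorem sn_comm {c d : Finset GolayPt} (hc : c ∈ EE) (hd : d ∈ EE) : sn c * sn d = sn d * sn c := by
  rw [sn_mul hc hd, sn_mul hd hc, symmDiff_comm]

/-- the permutations fixing the two points -/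
abbrev P2 : Subgroup (Equiv.Perm GolayPt) := SM [0x800000, 0x1]

theorem fs_none : fs 0x800000 = {none} := by
  have := H32.OctadStab.fs_two_pow none
  rwa [show (2 : ℕ) ^ idx none = 0x800000 by decide +kernel] at this

theorem fs_z0 : fs 0x1 = {z0} := by
  have := H32.OctadStab.fs_two_pow z0
  rwa [show (2 : ℕ) ^ idx z0 = 0x1 by decide +kernel] at this

theorem P2_none {g : Equiv.Perm GolayPt} (h : g ∈ P2) : g none = none := by
  have h1 := h.2 0x800000 (by simp)
  rw [fs_none, image_singleton, singleton_inj] at h1
  exact h1

theorem P2_z0 {g : Equiv.Perm GolayPt} (h : g ∈ P2) : g z0 = z0 := by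
  have h1 := h.2 0x1 (by simp)
  rw [fs_z0, image_singleton, singleton_inj] at h1
  exact h1

theorem mem_P2 {g : Equiv.Perm GolayPt} (hg : g ∈ M24) (h1 : g none = none) (h2 : g z0 = z0) : g ∈ P2 := by
  refine ⟨hg, ?_⟩
  intro m hm
  simp only [List.mem_cons, List.not_mem_nil, or_false] at hm
  rcases hm with rfl | rfl
  · rw [fs_none, image_singleton, h1]
  · rw [fs_z0, image_singleton, h2]

/-- the permutations in the stabiliser -/
noncomputable def ph : P2 →* G2 where
  toFun g := ⟨permHom ⟨g.1, g.2.1⟩, fixU_of (by rw [permHom_e8, permHom_e8, P2_none g.2, P2_z0 g.2])⟩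
  map_one' := Subtype.ext permHom.map_one
  map_mul' g h := Subtype.ext (permHom.map_mul ⟨g.1, g.2.1⟩ ⟨h.1, h.2.1⟩)

theorem ph_coe (g : P2) : (ph g).1 = permHom ⟨g.1, g.2.1⟩ := rfl

theorem ph_inj : Function.Injective ph := by
  intro g h hgh
  have h1 : (⟨g.1, g.2.1⟩ : M24) = ⟨h.1, h.2.1⟩ := permHom_inj (congrArg Subtype.val hgh)
  exact Subtype.ext (congrArg (fun x : M24 => x.1) h1)

theorem ee_image {g : Equiv.Perm GolayPt} (hg : g ∈ P2) {c : Finset GolayPt} (hc : c ∈ EE) : c.image g ∈ EE := by
  refine ⟨(image_mem_GS hg.1).2 hc.1, ?_, ?_⟩
  · intro h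
    obtain ⟨x, hx, h⟩ := mem_image.mp h
    have : x = none := g.injective (h.trans (P2_none hg).symm)
    exact hc.2.1 (this ▸ hx)
  · intro h
    obtain ⟨x, hx, h⟩ := mem_image.mp h
    have : x = z0 := g.injective (h.trans (P2_z0 hg).symm)
    exact hc.2.2 (this ▸ hx)

theorem oe_image {g : Equiv.Perm GolayPt} (hg : g ∈ P2) {c : Finset GolayPt} (hc : c ∈ OE) : c.image g ∈ OE :=
  ⟨(image_mem_octads hg.1).2 hc.1, (ee_image hg (oe_ee hc)).2⟩

theorem sn_conj (g : P2) {c : Finset GolayPt} (hc : c ∈ EE) : ph g * sn c * (ph g)⁻¹ = sn (c.image g.1) := by
  apply Subtype.ext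
  show (ph g).1 * (sn c).1 * ((ph g).1)⁻¹ = _
  rw [ph_coe, sn_coe hc, sn_coe (ee_image g.2 hc)]
  exact sg_conj _ hc.1

/-! ### orbits on octads -/

def o1 : ℕ := 0x11b8c
def bA : ℕ := 0x1412c6
def bB : ℕ := 0x433244
def gM : List ℕ := [0xb8dd3791092d4e26a99632e928c020, 0xba8a8756d012686885833cded24960]
def gS : List ℕ := [0xbc4d6555c70be49436035967460880, 0xbba2da58c7092434553063d5312ca0]

def PE (x : ℕ) : Bool := Nat.beq (pop x) 8 && Nat.beq (x &&& 0x800001) 0

theorem stE : okStageB [0x800000, 0x1] gM o1 329
  0x7119922411789810414229c8e02528a80005d144192a12942158c5040169842810670160300710d80011b8c019082ae46162d02439111c38d918046e382026560135062229656404200cb250700ab90400246158096648900003a152000e088e1850305a015c820a380265641928a84a0931681200068692a00d241a5848c2b0412146980126a0c4190498b40840ba28010b540c01498b4000135062282082ae2013021e392387040115848c0141a1a4103380b0002d50300134c214010ce02c2028817400149f00010b067000615848016043c4001ed080003822382955c8200045391001060b541810d80e00219922010ac2460108dc60006812620011c382012b202601258c502845102e301440ba4111350600094a2a017180460107b42001610a340127c00a000d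0d2400129454000c16a80951a61000360388004360380164890c011681260130ac241064a0320156123001226a0c100cc9121912c6280104b18a011007b40070e08801686920013e005201043c4c00409316010f130201114e441049f002007221140106592821380b060009316809528a84003021e20102e8a200280cb20114e4420148343400628258014d4188001b01c4111230ac003008dc004470e00020ab90010f6840010918560101964a01415720007b42000131412c003da100001a483401349068002433240003da10002d024c09515094000293e0000ba2880059280c015019640132b20201046e300168401e100e854801102e8a01406592005a04982054252800481d0a18520742100527c001710d800157208201032c940141889a000305aa0142a40e01428d300172082a01262d0200540c16010415721170160c0856404c0100a4f8006011b80046e300012b09180015094a014200f601229c8801440ba201324486104cac80106a8182006e300801504b18011a610a00182d5009160ce0000160ce0060388601007b420118561201486648014a5150001a1a48015102e801237180001d0a9009152074000742a40121b01c00058338004f8014011c111c0010a34c014b18a001230ac201055c82014906860043c4c00028258c01527c00014a2a1200024c5a016404ca004615841802371801241a1a0004470e0163141200470e080141055c0153910800132b200003886c004890cc01583380011262d001087898190803da003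0851a014e4422006a0c44001055c8006226a00101ed08015901320033244800404cac0060b540010a4f80015848c2010a34c209401ed00022114e0042528a0061230a01434906011b8c0200412c6201008dc6005094a20108a722007044700924c5a00019c058007c00a40010f130012e8a20002448660020d0d2012c6282000c44d4013434900144229c0102c19c001889a8015aa060002238700104cac8010851a6003886c0011964a0006920d0011469840018a096001c382201108a720120742a006c0710001745100026043c0144d418014a032c0032c940012a40e8012c19c0001412c6000132b20105aa060001c436012c94060044866400099590011e26040140e854010a903a01200f680074510201224332013c4c08004c2146001219920106226a00205d1401265640004c5a0401311350091572080065928000096314003718040100527c0128d308011c43600038704400305aa00021e2600129c884010d80e2002114e40000f68401293e0000454252002501960106701601088e1c0140c16a013a152000742a40010149f00039108a01506226012ae410004c0878005481d0000e21b00116a8180000293e0146984201021e260060ce0201294542015d144000433244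
  0x100000100000000000000000000000001000000000001000000000000000004000000000000000010000100401000010500000000000000400000000000000001000000000001000000010010001005040000000100000000000410000010010500000005040110100100001000400105000000000000000000000004000110000000000000100005000000010100004000000010000001040000000100010010000400000000010100100501040510500001000000000101000001000004001000000010000004014000010501051050000000001000000500100105050140500101104000500505001004050105501000000000000000010010000000000000000000000000000400000005010140100000000000000001000001010104005000010010004005010000010400051010000000000000010000000401000510100004001010000105000001010401005001000010001004050000000501011040000140000010010510500505050550500000000104000010000000000000010500000001000110000104101000500505000001000001004000054010101005051000040501051050010100504010050500000004000100100101005010400505001005010105405000051040101005050040010501055010040110100050050500100105050410500505505050500504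
  PE = true := by decide +kernel

def VA : ℕ := 0x100000000000000000000000000000000000000000000000000000000000000000000000000000010000000000000000000000000000000000000000000000000000000000000000000000000001001000000000000000000000010000000000400000000000000000000000000000000000000000000000000000004000100000000000000000000000000000000000000000000000000000000000000000000000000000000010000100100040000400000000000000000000000000000000000000010000004000000000001000010000000001000000100000001000040000000000000000000000000000000000000000000000000000000000000000000000000000000000000000001000040000000000000000000000000000100001000000000000000000000000000000000000000000000010000000000000000000000000000000000000000000000000000000000000000000000000000000000000000000000000000000000000010000000000000000000000000000000000000000000000110000000100000000004000001000000004000000000001001000000000000000000000000000000000000000000000000100100001000400400000000000000000000000000000000000000000000000000000000000000000000000000000000000000400010000000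
def VB : ℕ := 0x100000000000000000000000001000000000001000000000000000004000000000000000000000000401000010100000000000000400000000000000001000000000000000000000010000004000000000000000000000000000010010000000000000010000100000000000000000000000000000000000000000000000000000000100005000000010100004000000010000001040000000100010010000000000000000000000400000110100001000000000101000001000004001000000000000000004000010400011040000000000000000000100100050000500000100000400100000000000000501000000000000000010010000000000000000000000000000000000000010000100000000000000000000001000000004000000000000004000000000000001000000000000000000000000400000110100000000010000000000000000000004000000010000000000000000000001000000000000000000000000000000000000000000104000010000000000000010500000000000000000100001000500500000000000000000000044010100004011000000000001010000000104000010000000000000000000000004010000101000001000000401000001000100001000000000001005000000010000010040000000000000000000000000000000000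

theorem stA : okStageB [0x800000, 0x1, o1] gS bA 41
  0xf684000b540c014a032c00241a1a0104b18a2111b8c02845102e0121b01c001055c8002b091801440ba20105aa060010a34c01205d1400404cac001b01c401610a340004470e010ab904003008dc012501960101ed0801501964000e088e0041a1a400114e44012a12940121469800415720001a1a48006011b80015094a0020ab9000055c82010ba28801311350000a4f80004b18a0015102e8000f13020140ba28
  VA (fun x => VA.testBit (x % 4096)) = true := by decide +kernel

theorem stB : okStageB [0x800000, 0x1, o1] gS bB 111
  0x11111c38d9380b06004093162810d80e194539106800527c011c111c01087898005150940113021e3028d3081170160c280527c0000132b24901964a016038861015848c18710d802144229c001889a8000149f000230ac2006592800115720801583380011d0a900109631401504b18004c5a04011230ac0139108a0009959000094a2a000293e0006158480136038800293e00000c16a801093168011219920129c8840141055c10065928002082ae0105d144094229c8006043c40937180400043c4c0028258c010d0d240000293e01008dc60103886c0022114e0064890c011469840059280c001007b4010918560002c19c0043490601528a84012d024c0102371801305aa0014906860005833800007b4200229c88004d418800132b2001401ed0010742a40161230a01149f0000082ae4012114e4000305aa01498b4001060b5400226a0c01461584012528a80011350600088e1c010851a60041889a0011c3820003da100042528a01539108012c19c001032c940131412c01481d0a010498b4000160ce0123870401200f6800021e26014890cc010710d80023718001470e080124332401102e8a01199224000803da002199220104cac8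
  VB (fun x => VB.testBit (x % 4096)) = true := by decide +kernel

theorem coverAB : allB (fun x => Bool.not (PE x && Nat.beq (pop (x &&& o1)) 4) || (VA.testBit (x % 4096) || VB.testBit (x % 4096)))
    basisL 0 = true := by decide +kernel

theorem msk_and {o : Finset GolayPt} (h1 : none ∉ o) (h2 : z0 ∉ o) : msk o &&& 0x800001 = 0 := by
  have h3 : msk (fs 0x800001) = 0x800001 := msk_fs (by norm_num)
  rw [← h3, ← msk_inter]
  have h4 : fs 0x800001 = {none, z0} := by
    rw [show (0x800001 : ℕ) = 0x800000 ||| 0x1 by decide +kernel, ← fs_union, fs_none, fs_z0]; rfl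
  rw [h4]
  have h5 : o ∩ {none, z0} = ∅ := by
    ext x
    simp only [mem_inter, mem_insert, mem_singleton]
    constructor
    · rintro ⟨h, rfl | rfl⟩
      · exact absurd h h1
      · exact absurd h h2
    · intro h; exact absurd h (by simp)
  rw [h5, msk_empty]

theorem PE_of {o : Finset GolayPt} (h : o ∈ OE) : PE (msk o) = true := by
  unfold PE
  rw [Bool.and_eq_true, Nat.beq_eq, Nat.beq_eq]
  exact ⟨by rw [← card_eq_pop]; exact h.1.2, msk_and h.2.1 h.2.2⟩

theorem oe_of {m : ℕ} (h : (Nat.blt m 16777216 && (Nat.beq (cw (m % 4096)) m && PE m)) = true) : fs m ∈ OE := by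
  unfold PE at h
  rw [Bool.and_eq_true, Bool.and_eq_true, Bool.and_eq_true, Nat.blt_eq, Nat.beq_eq, Nat.beq_eq, Nat.beq_eq] at h
  obtain ⟨h1, h2, h3, h4⟩ := h
  refine ⟨⟨fs_mem_GS h1 h2, by rw [card_fs h1]; exact h3⟩, ?_, ?_⟩
  · intro h
    rw [mem_fs] at h
    have h5 : (m &&& 0x800001).testBit 23 = true := by
      rw [Nat.testBit_and, show Nat.testBit 0x800001 23 = true by decide +kernel, Bool.and_true]; exact h
    rw [h4] at h5; simp at h5
  · intro h
    rw [mem_fs] at h
    have h5 : (m &&& 0x800001).testBit 0 = true := by
      rw [Nat.testBit_and, show Nat.testBit 0x800001 0 = true by decide +kernel, Bool.and_true]; exact h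
    rw [h4] at h5; simp at h5

theorem o1_oe : fs o1 ∈ OE := oe_of (by decide +kernel)
theorem bA_oe : fs bA ∈ OE := oe_of (by decide +kernel)
theorem bB_oe : fs bB ∈ OE := oe_of (by decide +kernel)

/-- transitivity on the octads missing the two points -/
theorem trans_oe {o : Finset GolayPt} (h : o ∈ OE) : ∃ g ∈ P2, (fs o1).image g = o :=
  stageB stE o h.1.1 (PE_of h)

theorem SM_le {g : Equiv.Perm GolayPt} (h : g ∈ SM [0x800000, 0x1, o1]) : g ∈ P2 ∧ (fs o1).image g = fs o1 := by
  refine ⟨⟨h.1, fun m hm => h.2 m ?_⟩, h.2 o1 (by simp)⟩
  simp only [List.mem_cons, List.not_mem_nil, or_false] at hm ⊢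
  tauto

theorem pair_oe1 {b : Finset GolayPt} (hb : b ∈ OE) (h : (fs o1 ∩ b).card = 4) :
    ∃ g ∈ P2, (fs o1).image g = fs o1 ∧ ((fs bA).image g = b ∨ (fs bB).image g = b) := by
  have h1 := allGS coverAB hb.1.1
  have h2 : pop (msk b &&& o1) = 4 := by
    have h3 : msk (fs o1) = o1 := msk_fs (by decide +kernel)
    rw [← h3, ← msk_inter, ← card_eq_pop, inter_comm]; exact h
  rw [PE_of hb, h2, show (true && Nat.beq 4 4) = true from rfl, Bool.not_true, Bool.false_or, Bool.or_eq_true] at h1
  rcases h1 with h1 | h1
  · obtain ⟨g, hg, h2⟩ := stageB stA b hb.1.1 h1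
    exact ⟨g, (SM_le hg).1, (SM_le hg).2, Or.inl h2⟩
  · obtain ⟨g, hg, h2⟩ := stageB stB b hb.1.1 h1
    exact ⟨g, (SM_le hg).1, (SM_le hg).2, Or.inr h2⟩

theorem pair_oe {a b : Finset GolayPt} (ha : a ∈ OE) (hb : b ∈ OE) (h : (a ∩ b).card = 4) :
    ∃ g ∈ P2, (fs o1).image g = a ∧ ((fs bA).image g = b ∨ (fs bB).image g = b) := by
  obtain ⟨g, hg, rfl⟩ := trans_oe ha
  have hgi := P2.inv_mem hg
  have hb' : (b.image (g⁻¹ : Equiv.Perm GolayPt)) ∈ OE := oe_image hgi hb
  have e : (b.image (g⁻¹ : Equiv.Perm GolayPt)).image g = b := by
    rw [← H8.M24Trans.image_mul, mul_inv_cancel]; simp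
  have h4 : (fs o1 ∩ b.image (g⁻¹ : Equiv.Perm GolayPt)).card = 4 := by
    rw [← card_image_of_injective _ g.injective, image_inter _ _ g.injective, e]; exact h
  obtain ⟨k, hk, h1, h2⟩ := pair_oe1 hb' h4
  refine ⟨g * k, P2.mul_mem hg hk, by rw [H8.M24Trans.image_mul, h1], ?_⟩
  rw [H8.M24Trans.image_mul, H8.M24Trans.image_mul]
  rcases h2 with h2 | h2
  · left; rw [h2, e]
  · right; rw [h2, e]

end H9.MultCo2
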